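import Cfsg.Agent.H507.Conj.Cc
import Cfsg.Agent.S2340
import Cfsg.Agent.S1054

/-!
# The conjugation character: `E₆(q)` (helper507)
-/

set_option autoImplicit false

open Cfsg

namespace Cfsg.Agent.H507.Conj

open Cfsg.Agent.H430.Conj Cfsg.Agent.H514.DP

universe u v

theorem e6_num {q N t : ℕ} (hq : 2 ≤ q) (hN : N = 1 + q ^ 3 + q ^ 6) (ht : t ≤ N) (ht1 : 0 < t) :
    (t - 1) ^ 2 * t < (q * (q ^ 6 + q ^ 3 + 1) * (q ^ 4 + 1)) ^ 2 := by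
  have h1 : (t - 1) ^ 2 * t ≤ N ^ 2 * N := Nat.mul_le_mul (Nat.pow_le_pow_left (by omega) 2) ht
  refine h1.trans_lt ?_
  have h2 : q ^ 6 + q ^ 3 + 1 = N := by rw [hN]; ring
  rw [h2]
  have h3 : (q * N * (q ^ 4 + 1)) ^ 2 = N ^ 2 * (q ^ 2 * (q ^ 4 + 1) ^ 2) := by ring
  rw [h3]
  have h4 : 0 < N ^ 2 := by
    rw [hN]; positivity
  refine Nat.mul_lt_mul_of_pos_left ?_ h4
  rw [hN]
  have h5 : q ^ 3 ≤ q ^ 6 := Nat.pow_le_pow_right (by omega) (by norm_num)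
  have h6 : q ^ 6 * 4 ≤ q ^ 2 * (q ^ 4 + 1) ^ 2 := by
    have h7 : q ^ 2 * (q ^ 4 + 1) ^ 2 = q ^ 6 * q ^ 4 + 2 * q ^ 6 + q ^ 2 := by ring
    have h8 : 2 ^ 4 ≤ q ^ 4 := Nat.pow_le_pow_left hq 4
    rw [h7]
    nlinarith [Nat.zero_le (q ^ 6), Nat.zero_le (q ^ 2), Nat.mul_le_mul_left (q ^ 6) h8]
  have h9 : 1 ≤ q ^ 3 := Nat.one_le_pow _ _ (by omega)
  omega

/-- `E₆(q)` -/
theorem row_chevE6 {F : Type u} [Field F] [Fintype F] [IsSimpleGroup ↥(Lie.chevE6.group F)]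
    (hna : ¬ IsMulCommutative ↥(Lie.chevE6.group F)) : Row ↥(Lie.chevE6.group F) := by
  have hq : 2 ≤ Fintype.card F := Fintype.one_lt_card
  have hE := H129.CycT.exact_E6_9 (F := F) (q := Fintype.card F) rfl (N := 1 + Fintype.card F ^ 3 + Fintype.card F ^ 6)
    (by push_cast; rfl)
  set N := 1 + Fintype.card F ^ 3 + Fintype.card F ^ 6 with hN
  have hg : Nat.gcd 3 (Fintype.card F - 1) ≤ 3 := Nat.gcd_le_left _ (by norm_num)
  have hg0 : 0 < Nat.gcd 3 (Fintype.card F - 1) := Nat.gcd_pos_of_pos_left _ (by norm_num)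
  have h8 : 2 ^ 3 ≤ Fintype.card F ^ 3 := Nat.pow_le_pow_left hq 3
  have ht : 1 < N / Nat.gcd 3 (Fintype.card F - 1) := by
    have : 3 * 2 ≤ N := by omega
    have h9 : 2 * Nat.gcd 3 (Fintype.card F - 1) ≤ N := by omega
    exact (Nat.le_div_iff_mul_le hg0).2 h9
  refine row_of_exact hna hE ht (d := Fintype.card F * (Fintype.card F ^ 6 + Fintype.card F ^ 3 + 1) *
    (Fintype.card F ^ 4 + 1)) (fun k ρ hρ hk => Cfsg.Agent.S2340.result k ρ hρ hk) ?_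
  exact e6_num hq hN (Nat.div_le_self _ _) (by omega)

/-- **Row `E₆(q)`.** -/
theorem row_e6 {S : Type v} [Group S] [Finite S] (_hs : IsSimpleGroup S) (h : Lie.IsoChevE6 S) : Row S := by
  obtain ⟨F, hF, hF', ⟨e⟩⟩ := h
  have h1 : IsSimpleGroup ↥(Lie.chevE6.group F) ∧ ¬ IsMulCommutative ↥(Lie.chevE6.group F) :=
    S1054.result Lie.chevE6 (by simp)
  have := h1.1
  have : Finite ↥(Lie.chevE6.group F) := Finite.of_equiv S e.toEquiv
  exact Row.of_equiv e.symm (row_chevE6 h1.2)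

end Cfsg.Agent.H507.Conj
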